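import Groth.Agent.L25.Char.DescentSplit
import Mathlib.LinearAlgebra.TensorProduct.Tower
import Mathlib.Algebra.Module.Projective
import Mathlib.GroupTheory.Finiteness

/-!
# Functionals and coordinates on base changes of a split Hopf algebra
-/

set_option autoImplicit false

universe u v

open TensorProduct MonoidAlgebra

namespace Groth.L25.Isotriv

open Groth.L25.Char Groth.L25.MultType

variable {R : Type u} [CommRing R] {A : Type u} [CommRing A] [HopfAlgebra R A]

section Fn

variable {T : Type u} [CommRing T] [Algebra R T]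

/-- The extension of a functional. -/
noncomputable def Fn (T : Type u) [CommRing T] [Algebra R T] (f : A →ₗ[R] R) : T ⊗[R] A →ₗ[T] T :=
  (TensorProduct.AlgebraTensorModule.rid R T T).toLinearMap ∘ₗ f.baseChange T

theorem Fn_tmul (f : A →ₗ[R] R) (t : T) (a : A) : Fn T f (t ⊗ₜ a) = f a • t := by
  simp [Fn]

theorem Fn_mapT {T' : Type u} [CommRing T'] [Algebra R T'] (f : A →ₗ[R] R) (g : T →ₐ[R] T')
    (x : T ⊗[R] A) : Fn T' f (mapT R A g x) = g (Fn T f x) := by
  induction x using TensorProduct.induction_on with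
  | zero => simp
  | tmul t a => simp [Fn_tmul]
  | add p q hp hq => simp only [map_add, hp, hq]

variable [Module.Projective R A]

theorem recon (x : T ⊗[R] A) : ∃ (s : Finset A) (f : A → (A →ₗ[R] R)),
    x = ∑ a ∈ s, Fn T (f a) x • ((1 : T) ⊗ₜ[R] a) := by
  classical
  obtain ⟨σ, hσ⟩ := Module.projective_def'.1 (inferInstance : Module.Projective R A)
  let f : A → (A →ₗ[R] R) := fun a => Finsupp.lapply a ∘ₗ σ
  suffices ∃ s₀ : Finset A, ∀ s, s₀ ⊆ s → x = ∑ a ∈ s, Fn T (f a) x • ((1 : T) ⊗ₜ[R] a) by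
    obtain ⟨s₀, h⟩ := this
    exact ⟨s₀, f, h s₀ subset_rfl⟩
  induction x using TensorProduct.induction_on with
  | zero => exact ⟨∅, fun s _ => by simp⟩
  | tmul t a =>
    refine ⟨(σ a).support, fun s hs => ?_⟩
    have h1 := LinearMap.congr_fun hσ a
    simp only [LinearMap.comp_apply, LinearMap.id_apply, Finsupp.linearCombination_apply] at h1
    rw [Finsupp.sum_of_support_subset (σ a) hs (fun i r => r • id i) (fun i _ => zero_smul R (id i))] at h1
    conv_lhs => rw [← h1, TensorProduct.tmul_sum]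
    refine Finset.sum_congr rfl fun b _ => ?_
    simp [Fn_tmul, f, TensorProduct.smul_tmul']
  | add p q hp hq =>
    obtain ⟨s₁, h₁⟩ := hp
    obtain ⟨s₂, h₂⟩ := hq
    refine ⟨s₁ ∪ s₂, fun s hs => ?_⟩
    conv_lhs => rw [h₁ s (Finset.union_subset_left hs), h₂ s (Finset.union_subset_right hs), ← Finset.sum_add_distrib]
    simp only [map_add, add_smul]

theorem mem_range_mapT (P : Subalgebra R T) {x : T ⊗[R] A} (h : ∀ f : A →ₗ[R] R, Fn T f x ∈ P) :
    x ∈ Set.range (mapT R A P.val) := by
  obtain ⟨s, f, hx⟩ := recon x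
  refine ⟨∑ a ∈ s, (⟨_, h (f a)⟩ : P) ⊗ₜ[R] a, ?_⟩
  rw [map_sum]
  conv_rhs => rw [hx]
  refine Finset.sum_congr rfl fun a _ => ?_
  simp [TensorProduct.smul_tmul']

/-- A linear form takes values in a subalgebra if the functionals and its values on `1 ⊗ A` do. -/
theorem apply_mem (P : Subalgebra R T) (L : T ⊗[R] A →ₗ[T] T) {x : T ⊗[R] A}
    (h : ∀ f : A →ₗ[R] R, Fn T f x ∈ P) (hL : ∀ a, L ((1 : T) ⊗ₜ a) ∈ P) : L x ∈ P := by
  obtain ⟨s, f, hx⟩ := recon x
  rw [hx, map_sum]
  refine sum_mem fun a _ => ?_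
  rw [map_smul, smul_eq_mul]
  exact mul_mem (h _) (hL a)

end Fn

section GroupLike

variable {T : Type u} [CommRing T] [Algebra R T] [Module.Flat R A] {T' : Type u} [CommRing T'] [Algebra R T']

theorem isGL_of_map {g : T →ₐ[R] T'} (hg : Function.Injective g) {x : T ⊗[R] A}
    (h : IsGL R A T' (mapT R A g x)) : IsGL R A T x := by
  refine ⟨mapT_injective (A := A ⊗[R] A) hg ?_, hg ?_⟩
  · rw [← comulT_mapT, ← sqT_mapT]; exact h.1
  · rw [← counit_mapT, map_one]; exact h.2

end GroupLike

theorem coeff_mapAlgHom {T T' : Type u} [CommRing T] [Algebra R T] [CommRing T'] [Algebra R T']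
    {M : Type v} [Monoid M] (g : T →ₐ[R] T') (y : MonoidAlgebra T M) (m : M) :
    (mapAlgHom M g y).coeff m = g (y.coeff m) := by
  induction y using MonoidAlgebra.induction_linear with
  | zero => simp
  | add a b ha hb => simp only [map_add, MonoidAlgebra.coeff_add, Finsupp.add_apply, ha, hb]
  | single n r =>
    classical
    rw [mapAlgHom_single, MonoidAlgebra.coeff_single, MonoidAlgebra.coeff_single, Finsupp.single_apply,
      Finsupp.single_apply]
    split_ifs <;> simp

/-- Coefficients in a subalgebra are stable under products. -/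
theorem coeff_mul_mem {T : Type u} [CommRing T] [Algebra R T] {M : Type v} [Monoid M] (P : Subalgebra R T)
    {x y : MonoidAlgebra T M} (hx : ∀ m, x.coeff m ∈ P) (hy : ∀ m, y.coeff m ∈ P) (m : M) :
    (x * y).coeff m ∈ P := by
  classical
  have key : ∀ z : MonoidAlgebra T M, (∀ m, z.coeff m ∈ P) → ∃ z₀, mapAlgHom M P.val z₀ = z := by
    intro z hz
    refine ⟨∑ m ∈ z.coeff.support, single m (⟨z.coeff m, hz m⟩ : P), ?_⟩
    rw [map_sum]
    simp only [mapAlgHom_single, Subalgebra.val_apply]
    exact MonoidAlgebra.ext (by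
      rw [MonoidAlgebra.coeff_sum]
      simp only [MonoidAlgebra.coeff_single]
      exact z.coeff.sum_single)
  obtain ⟨x₀, rfl⟩ := key x hx
  obtain ⟨y₀, rfl⟩ := key y hy
  rw [← map_mul, coeff_mapAlgHom]
  exact ((x₀ * y₀).coeff m).2

/-- Two comparisons of group-like bases inverse to each other are transposes of each other. -/
theorem coeff_symm {T : Type u} [CommRing T] {M N : Type v} [CommGroup M] [CommGroup N]
    (Θ : MonoidAlgebra T N ≃ₗ[T] MonoidAlgebra T M)
    (hΘ : ∀ n, IsGroupLikeElem T (Θ (single n 1))) (hΘ' : ∀ m, IsGroupLikeElem T (Θ.symm (single m 1)))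
    (m : M) (n : N) : (Θ (single n 1)).coeff m = (Θ.symm (single m 1)).coeff n := by
  classical
  suffices key : ∀ {M N : Type v} [CommGroup M] [CommGroup N] (Θ : MonoidAlgebra T N ≃ₗ[T] MonoidAlgebra T M),
      (∀ n, IsGroupLikeElem T (Θ (single n 1))) → (∀ m, IsGroupLikeElem T (Θ.symm (single m 1))) →
      ∀ m n, (Θ.symm (single m 1)).coeff n = (Θ.symm (single m 1)).coeff n * (Θ (single n 1)).coeff m by
    have h1 := key Θ hΘ hΘ' m n
    have h2 := key Θ.symm hΘ' (by simpa using hΘ) n m
    simp only [LinearEquiv.symm_symm] at h2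
    exact h2.trans ((mul_comm _ _).trans h1.symm)
  intro M N _ _ Θ hΘ hΘ' m n
  let Y := Θ.symm (single m (1 : T))
  have hsum : Θ Y = ∑ i ∈ Y.coeff.support, Y.coeff i • Θ (single i 1) := by
    conv_lhs => rw [show Y = ∑ i ∈ Y.coeff.support, Y.coeff i • single i (1 : T) from MonoidAlgebra.ext (by
      rw [MonoidAlgebra.coeff_sum]
      simp only [MonoidAlgebra.coeff_smul, MonoidAlgebra.coeff_single, Finsupp.smul_single, smul_eq_mul, mul_one]
      exact Y.coeff.sum_single.symm)]
    rw [map_sum]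
    simp only [map_smul]
  have h0 : ∀ j, j ≠ m → Y.coeff n * (Θ (single n 1)).coeff j = 0 := by
    intro j hj
    have h1 : (Θ Y).coeff j = 0 := by
      rw [LinearEquiv.apply_symm_apply, MonoidAlgebra.coeff_single, Finsupp.single_apply, if_neg (Ne.symm hj)]
    rw [hsum, MonoidAlgebra.coeff_sum, Finsupp.finsetSum_apply] at h1
    have h2 := congrArg (Y.coeff n * ·) h1
    simp only [Finset.mul_sum, mul_zero, MonoidAlgebra.coeff_smul, Finsupp.smul_apply, smul_eq_mul] at h2
    rw [Finset.sum_eq_single n (fun i _ hi => by rw [← mul_assoc, coeff_mul_coeff (hΘ' m), if_neg (Ne.symm hi), zero_mul])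
      (fun h => by simp [Finsupp.notMem_support_iff.1 h]),
      ← mul_assoc, coeff_mul_coeff (hΘ' m), if_pos rfl] at h2
    exact h2
  have h3 := sum_coeff (hΘ n)
  calc Y.coeff n = Y.coeff n * (Θ (single n 1)).coeff.sum (fun _ r => r) := by rw [h3, mul_one]
    _ = Y.coeff n * (Θ (single n 1)).coeff m := by
      rw [Finsupp.sum, Finset.mul_sum, Finset.sum_eq_single m (fun j _ hj => h0 j hj)
        (fun h => by rw [Finsupp.notMem_support_iff.1 h, mul_zero])]

end Groth.L25.Isotriv
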