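import Groth.Agent.L25.FinMult.Main
import Mathlib.Algebra.Module.FinitePresentation
import Mathlib.LinearAlgebra.TensorProduct.RightExactness
import Mathlib.RingTheory.Flat.Basic

/-!
# Properties which can be checked on a family of étale algebras covering the base
-/

set_option autoImplicit false

universe u

open TensorProduct

namespace Groth.L25.Isotriv

variable (R : Type u) [CommRing R]

/-- A property holds on an étale neighbourhood of every prime. -/
def EtLoc (P : ∀ (S : Type u) [CommRing S] [Algebra R S], Prop) : Prop :=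
  ∀ (p : Ideal R) [p.IsPrime], ∃ (S : Type u) (_ : CommRing S) (_ : Algebra R S) (_ : Algebra.Etale R S)
    (q : Ideal S), q.IsPrime ∧ q.comap (algebraMap R S) = p ∧ P S

variable {R}

theorem EtLoc.mono {P Q : ∀ (S : Type u) [CommRing S] [Algebra R S], Prop} (h : EtLoc R P)
    (hPQ : ∀ (S : Type u) [CommRing S] [Algebra R S] [Algebra.Etale R S], P S → Q S) : EtLoc R Q := by
  intro p _
  obtain ⟨S, _, _, _, q, hq, hqp, hP⟩ := h p
  exact ⟨S, inferInstance, inferInstance, inferInstance, q, hq, hqp, hPQ S hP⟩

theorem EtLoc.subsingleton {M : Type u} [AddCommGroup M] [Module R M]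
    (h : EtLoc R fun S _ _ => Subsingleton (S ⊗[R] M)) : Subsingleton M :=
  FinMult.subsingleton_of_forall_prime fun p _ => by
    obtain ⟨S, _, _, _, q, hq, hqp, hS⟩ := h p
    exact ⟨S, inferInstance, inferInstance, inferInstance, q, hq, hqp, hS⟩

theorem EtLoc.finite {M : Type u} [AddCommGroup M] [Module R M]
    (h : EtLoc R fun S _ _ => Module.Finite S (S ⊗[R] M)) : Module.Finite R M := by
  classical
  have key : ∀ x : PrimeSpectrum R, ∃ (S : Type u) (_ : CommRing S) (_ : Algebra R S) (_ : Algebra.Etale R S)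
      (G : Finset M), x ∈ Set.range (PrimeSpectrum.comap (algebraMap R S)) ∧
        ∀ z : S ⊗[R] M, z ∈ Submodule.span S ((fun m => (1 : S) ⊗ₜ[R] m) '' (G : Set M)) := by
    intro x
    obtain ⟨S, _, _, _, q, hq, hqp, hS⟩ := h x.asIdeal
    obtain ⟨g, hg⟩ := Module.finite_def.1 hS
    have hone : ∀ z : S ⊗[R] M, ∃ G : Finset M, z ∈ Submodule.span S ((fun m => (1 : S) ⊗ₜ[R] m) '' (G : Set M)) := by
      intro z
      induction z using TensorProduct.induction_on with
      | zero => exact ⟨∅, zero_mem _⟩
      | tmul s m =>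
        refine ⟨{m}, ?_⟩
        rw [show s ⊗ₜ[R] m = s • ((1 : S) ⊗ₜ[R] m) by rw [TensorProduct.smul_tmul', smul_eq_mul, mul_one]]
        exact Submodule.smul_mem _ _ (Submodule.subset_span ⟨m, by simp, rfl⟩)
      | add a b ha hb =>
        obtain ⟨G₁, h₁⟩ := ha
        obtain ⟨G₂, h₂⟩ := hb
        exact ⟨G₁ ∪ G₂, add_mem (Submodule.span_mono (Set.image_mono (by simp)) h₁)
          (Submodule.span_mono (Set.image_mono (by simp)) h₂)⟩
    choose G hG using hone
    refine ⟨S, inferInstance, inferInstance, inferInstance, g.biUnion G, ⟨⟨q, hq⟩, PrimeSpectrum.ext hqp⟩, fun z => ?_⟩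
    have hz : z ∈ Submodule.span S (g : Set (S ⊗[R] M)) := hg ▸ Submodule.mem_top
    refine Submodule.span_le.2 (fun w hw => ?_) hz
    exact Submodule.span_mono (Set.image_mono (Finset.coe_subset.2 (Finset.subset_biUnion_of_mem G hw))) (hG w)
  choose S hS1 hS2 hS3 G hx hG using key
  obtain ⟨t, ht⟩ := isCompact_univ.elim_finite_subcover
    (fun x => letI := hS1 x; letI := hS2 x; Set.range (PrimeSpectrum.comap (algebraMap R (S x))))
    (fun x => by
      letI := hS1 x
      letI := hS2 x
      haveI := hS3 x
      rw [← Set.image_univ]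
      exact PrimeSpectrum.isOpenMap_comap_of_hasGoingDown_of_finitePresentation _ isOpen_univ)
    fun x _ => Set.mem_iUnion.2 ⟨x, hx x⟩
  let N : Submodule R M := Submodule.span R (↑(t.biUnion G) : Set M)
  have hsub : Subsingleton (M ⧸ N) := by
    refine EtLoc.subsingleton (R := R) fun p hp => ?_
    obtain ⟨x, hxt, hpx⟩ : ∃ x ∈ t, (letI := hS1 x; letI := hS2 x;
        (⟨p, hp⟩ : PrimeSpectrum R) ∈ Set.range (PrimeSpectrum.comap (algebraMap R (S x)))) := by
      simpa using ht (Set.mem_univ (⟨p, hp⟩ : PrimeSpectrum R))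
    letI := hS1 x
    letI := hS2 x
    haveI := hS3 x
    obtain ⟨w, hw⟩ := hpx
    refine ⟨S x, inferInstance, inferInstance, inferInstance, w.asIdeal, w.isPrime,
      congrArg PrimeSpectrum.asIdeal hw, subsingleton_of_forall_eq 0 fun y => ?_⟩
    obtain ⟨z, rfl⟩ := LinearMap.lTensor_surjective (S x) N.mkQ_surjective y
    have hz := hG x z
    let L : S x ⊗[R] M →ₗ[S x] S x ⊗[R] (M ⧸ N) := LinearMap.baseChange (S x) N.mkQ
    have hL : ∀ y, L y = N.mkQ.lTensor (S x) y := fun y => rfl
    rw [← hL]
    refine LinearMap.mem_ker.1 (Submodule.span_le.2 ?_ hz)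
    rintro _ ⟨m, hm, rfl⟩
    show L ((1 : S x) ⊗ₜ m) = 0
    have hmN : N.mkQ m = 0 := (Submodule.Quotient.mk_eq_zero N).2
      (Submodule.subset_span (Finset.mem_coe.2 (Finset.mem_biUnion.2 ⟨x, hxt, hm⟩)))
    simp [L, hmN]
  have hN : N = ⊤ := Submodule.Quotient.subsingleton_iff.1 hsub
  exact Module.finite_def.2 ⟨t.biUnion G, hN⟩

theorem EtLoc.flat {M : Type u} [AddCommGroup M] [Module R M]
    (h : EtLoc R fun S _ _ => Module.Flat S (S ⊗[R] M)) : Module.Flat R M := by
  rw [Module.Flat.iff_lTensor_preserves_injective_linearMap]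
  intro N N' _ _ _ _ f hf
  let K0 := LinearMap.ker (f.lTensor M)
  suffices hsub : Subsingleton K0 by
    rw [← LinearMap.ker_eq_bot]
    exact Submodule.eq_bot_of_subsingleton
  refine EtLoc.subsingleton (R := R) (h.mono fun S _ _ _ hS => subsingleton_of_forall_eq 0 fun y => ?_)
  haveI : Module.Flat R (S ⊗[R] M) := Module.Flat.trans R S (S ⊗[R] M)
  have h1 : Function.Injective (K0.subtype.lTensor S) :=
    Module.Flat.lTensor_preserves_injective_linearMap (M := S) _ Subtype.val_injective
  have h2 : Function.Injective (f.lTensor (S ⊗[R] M)) :=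
    Module.Flat.lTensor_preserves_injective_linearMap (M := S ⊗[R] M) f hf
  refine h1 ((TensorProduct.assoc R S M N).symm.injective (h2 ?_))
  have key : ∀ w : S ⊗[R] (M ⊗[R] N), f.lTensor (S ⊗[R] M) ((TensorProduct.assoc R S M N).symm w) =
      (TensorProduct.assoc R S M N').symm ((f.lTensor M).lTensor S w) := by
    intro w
    induction w using TensorProduct.induction_on with
    | zero => simp
    | tmul s z =>
      induction z using TensorProduct.induction_on with
      | zero => simp
      | tmul m n => simp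
      | add a b ha hb => simp only [TensorProduct.tmul_add, map_add, ha, hb]
    | add a b ha hb => simp only [map_add, ha, hb]
  rw [key, ← LinearMap.lTensor_comp_apply,
    show f.lTensor M ∘ₗ K0.subtype = 0 from LinearMap.ext fun z => z.2, LinearMap.lTensor_zero,
    LinearMap.zero_apply, map_zero, map_zero, map_zero, map_zero]

theorem EtLoc.finitePresentation {M : Type u} [AddCommGroup M] [Module R M] [Module.Finite R M]
    (h : EtLoc R fun S _ _ => Module.Projective S (S ⊗[R] M)) : Module.FinitePresentation R M := by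
  obtain ⟨n, π, hπ⟩ := Module.Finite.exists_fin' R M
  haveI : Module.Finite R (LinearMap.ker π) := EtLoc.finite (h.mono fun S _ _ _ hS => by
    let πS := π.baseChange S
    have hπS : Function.Surjective πS := LinearMap.lTensor_surjective S hπ
    obtain ⟨s, hs⟩ := Module.projective_lifting_property πS LinearMap.id hπS
    let pr : S ⊗[R] (Fin n → R) →ₗ[S] LinearMap.ker πS :=
      LinearMap.codRestrict _ (LinearMap.id - s.comp πS) fun x => by
        have := LinearMap.congr_fun hs (πS x)
        simp only [LinearMap.comp_apply, LinearMap.id_apply] at this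
        simp [LinearMap.mem_ker, this]
    have hpr : Function.Surjective pr := fun x => ⟨x, Subtype.ext (by simp [pr, LinearMap.mem_ker.1 x.2])⟩
    haveI : Module.Finite S (LinearMap.ker πS) := Module.Finite.of_surjective pr hpr
    let ι := (LinearMap.ker π).subtype.baseChange S
    have hι : Function.Injective ι :=
      Module.Flat.lTensor_preserves_injective_linearMap (M := S) _ Subtype.val_injective
    have hex := lTensor_exact S (LinearMap.exact_subtype_ker_map π) hπ
    have hrange : ∀ x : S ⊗[R] (LinearMap.ker π), ι x ∈ LinearMap.ker πS := fun x =>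
      LinearMap.mem_ker.2 (hex.apply_apply_eq_zero x)
    let j := LinearMap.codRestrict (LinearMap.ker πS) ι hrange
    have hj : Function.Bijective j := ⟨fun a b hab => hι (congrArg Subtype.val hab), fun x => by
      obtain ⟨y, hy⟩ := (hex (x : S ⊗[R] (Fin n → R))).1 (LinearMap.mem_ker.1 x.2)
      exact ⟨y, Subtype.ext hy⟩⟩
    exact Module.Finite.equiv (LinearEquiv.ofBijective j hj).symm)
  exact Module.finitePresentation_of_surjective π hπ (Module.Finite.iff_fg.1 inferInstance)

theorem EtLoc.formallyUnramified {C : Type u} [CommRing C] [Algebra R C]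
    (h : EtLoc R fun S _ _ => Algebra.FormallyUnramified S (S ⊗[R] C)) : Algebra.FormallyUnramified R C :=
  ⟨EtLoc.subsingleton (h.mono fun S _ _ _ hS => by
    letI : Algebra C (S ⊗[R] C) := Algebra.TensorProduct.rightAlgebra
    exact (KaehlerDifferential.tensorKaehlerEquivBase R S C (S ⊗[R] C)).toEquiv.subsingleton)⟩

end Groth.L25.Isotriv
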