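import Mathlib.RingTheory.Etale.Basic
import Mathlib.RingTheory.Unramified.Finite
import Mathlib.RingTheory.Unramified.Field
import Mathlib.RingTheory.Smooth.IntegralClosure
import Mathlib.RingTheory.Artinian.Ring
import Mathlib.RingTheory.Finiteness.Projective
import Mathlib.RingTheory.IntegralClosure.IntegrallyClosed
import Mathlib.RingTheory.Localization.FractionRing
import Mathlib.RingTheory.SimpleModule.Basic
import Mathlib.RingTheory.Kaehler.Basic
import Mathlib.RingTheory.TensorProduct.Free

/-!
# Algebras generated by idempotents over an étale algebra of an integrally closed domain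
-/

set_option autoImplicit false

universe u

open TensorProduct

namespace Groth.L25.Isotriv

section Adjoin

variable (S : Type u) [CommRing S] {T : Type u} [CommRing T] [Algebra S T]

/-- Annihilators of idempotents of `T` in `S` are generated by idempotents. -/
def AnnIdem (T : Type u) [CommRing T] [Algebra S T] : Prop :=
  ∀ a : T, IsIdempotentElem a → ∃ u : S, u • a = 0 ∧ ∀ x : S, x • a = 0 → x * u = x

variable {S}

theorem finite_projective_adjoin (hT : AnnIdem S T) (E : Finset T) (hE : ∀ e ∈ E, IsIdempotentElem e) :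
    Module.Finite S (Algebra.adjoin S (E : Set T)) ∧ Module.Projective S (Algebra.adjoin S (E : Set T)) ∧
      Algebra.FormallyUnramified S (Algebra.adjoin S (E : Set T)) := by
  classical
  let P := Algebra.adjoin S (E : Set T)
  let atom : Finset T → T := fun s => (∏ e ∈ s, e) * ∏ e ∈ E \ s, (1 - e)
  have hatom_idem : ∀ s ∈ E.powerset, IsIdempotentElem (atom s) := fun s hs => by
    show atom s * atom s = atom s
    simp only [atom]
    rw [mul_mul_mul_comm, ← Finset.prod_mul_distrib, ← Finset.prod_mul_distrib]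
    congr 1
    · exact Finset.prod_congr rfl fun e he => (hE e (Finset.mem_powerset.1 hs he)).eq
    · exact Finset.prod_congr rfl fun e he => (hE e (Finset.mem_sdiff.1 he).1).one_sub.eq
  have hatom_mem : ∀ s ∈ E.powerset, atom s ∈ P := fun s hs => by
    refine mul_mem (prod_mem fun e he => Algebra.subset_adjoin (Finset.mem_powerset.1 hs he))
      (prod_mem fun e he => sub_mem (one_mem _) (Algebra.subset_adjoin (Finset.mem_sdiff.1 he).1))
  have hsum : ∑ s ∈ E.powerset, atom s = 1 := by
    have h := (Finset.prod_add (fun e : T => e) (fun e => 1 - e) E).symm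
    simpa [atom] using h
  have hcoef : ∀ x ∈ P, ∀ s ∈ E.powerset, ∃ c : S, x * atom s = c • atom s := by
    intro x hx s hs
    induction hx using Algebra.adjoin_induction with
    | mem e he =>
      by_cases hes : e ∈ s
      · refine ⟨1, ?_⟩
        rw [one_smul]
        simp only [atom]
        rw [← mul_assoc, ← Finset.mul_prod_erase s _ hes, ← mul_assoc e, (hE e he).eq]
      · refine ⟨0, ?_⟩
        have hm : e ∈ E \ s := Finset.mem_sdiff.2 ⟨he, hes⟩
        rw [zero_smul]
        simp only [atom]
        rw [← Finset.mul_prod_erase (E \ s) _ hm]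
        have h0 : e * (1 - e) = 0 := (hE e he).mul_one_sub_self
        linear_combination ((∏ e ∈ s, e) * ∏ x ∈ (E \ s).erase e, (1 - x)) * h0
    | algebraMap r => exact ⟨r, (Algebra.smul_def r _).symm⟩
    | add x y _ _ hx hy =>
      obtain ⟨c, hc⟩ := hx
      obtain ⟨d, hd⟩ := hy
      exact ⟨c + d, by rw [add_mul, hc, hd, add_smul]⟩
    | mul x y _ _ hx hy =>
      obtain ⟨c, hc⟩ := hx
      obtain ⟨d, hd⟩ := hy
      exact ⟨d * c, by rw [mul_assoc, hd, mul_smul_comm, hc, smul_smul]⟩
  let ι := ↥E.powerset
  choose u hu0 hu using fun s : ι => hT (atom s) (hatom_idem s s.2)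
  choose c hc using fun (x : P) (s : ι) => hcoef x x.2 s s.2
  let h : P → ι → S := fun x s => c x s * (1 - u s)
  have hh : ∀ x s, (h x s) • atom (s : Finset T) = (x : T) * atom s := fun x s => by
    simp only [h]
    rw [mul_sub, mul_one, sub_smul, mul_smul, hu0, smul_zero, sub_zero, ← hc]
  have huniq : ∀ (s : ι) (a b : S), a • atom (s : Finset T) = b • atom s → a * (1 - u s) = b * (1 - u s) := by
    intro s a b hab
    have h1 := hu s (a - b) (by rw [sub_smul, hab, sub_self])
    linear_combination -h1
  have hfix : ∀ x s, h x s * (1 - u s) = h x s := fun x s => by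
    have h1 : u s * u s = u s := hu s _ (hu0 s)
    simp only [h]
    linear_combination (c x s) * h1
  let hl : P →ₗ[S] (ι → S) :=
    { toFun := h
      map_add' := fun x y => funext fun s => by
        show h (x + y) s = h x s + h y s
        rw [← hfix (x + y) s, ← hfix x s, ← hfix y s, ← add_mul]
        refine huniq s _ _ ?_
        rw [add_smul, hh, hh, hh, Subalgebra.coe_add, add_mul]
      map_smul' := fun r x => funext fun s => by
        show h (r • x) s = r * h x s
        rw [← hfix (r • x) s, ← hfix x s, ← mul_assoc]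
        refine huniq s _ _ ?_
        rw [hh, show (r * h x s) • atom (s : Finset T) = r • (h x s • atom (s : Finset T)) from mul_smul _ _ _, hh, Subalgebra.coe_smul, smul_mul_assoc] }
  let g : (ι → S) →ₗ[S] P :=
    ∑ s : ι, (LinearMap.toSpanSingleton S P ⟨atom s, hatom_mem s s.2⟩).comp (LinearMap.proj s)
  have hgh : g.comp hl = LinearMap.id := LinearMap.ext fun x => Subtype.ext (by
    simp only [g, hl, LinearMap.comp_apply, LinearMap.coe_sum, Finset.sum_apply, LinearMap.proj_apply,
      LinearMap.toSpanSingleton_apply, LinearMap.id_apply, LinearMap.coe_mk, AddHom.coe_mk,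
      AddSubmonoidClass.coe_finsetSum, Subalgebra.coe_smul]
    simp only [hh]
    rw [← Finset.mul_sum, Finset.univ_eq_attach, Finset.sum_attach E.powerset atom, hsum, mul_one])
  have hgs : Function.Surjective g := fun x => ⟨hl x, LinearMap.congr_fun hgh x⟩
  refine ⟨Module.Finite.of_surjective g hgs, Module.Projective.of_split hl g hgh, ⟨?_⟩⟩
  have hD : ∀ x : P, KaehlerDifferential.D S P x = 0 := by
    rintro ⟨x, hx⟩
    induction hx using Algebra.adjoin_induction with
    | mem e he =>
      let e' : P := ⟨e, Algebra.subset_adjoin he⟩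
      show KaehlerDifferential.D S P e' = 0
      have hee : e' * e' = e' := Subtype.ext (hE e he).eq
      have h2 := (KaehlerDifferential.D S P).leibniz e' e'
      rw [hee] at h2
      have h3 := congrArg (fun z => e' • z) h2
      simp only [smul_add, smul_smul, hee] at h3
      have h4 : e' • KaehlerDifferential.D S P e' = 0 := left_eq_add.1 h3
      rw [h2, h4, add_zero]
    | algebraMap r => exact Derivation.map_algebraMap _ r
    | add x y hx' hy' hx hy =>
      rw [show (⟨x + y, _⟩ : P) = ⟨x, hx'⟩ + ⟨y, hy'⟩ from rfl, map_add, hx, hy, add_zero]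
    | mul x y hx' hy' hx hy =>
      rw [show (⟨x * y, _⟩ : P) = ⟨x, hx'⟩ * ⟨y, hy'⟩ from rfl, Derivation.leibniz, hx, hy, smul_zero, smul_zero, add_zero]
  refine subsingleton_of_forall_eq 0 fun z => ?_
  have hz : z ∈ Submodule.span P (Set.range (KaehlerDifferential.D S P)) := by
    rw [KaehlerDifferential.span_range_derivation]; trivial
  induction hz using Submodule.span_induction with
  | mem w hw => obtain ⟨x, rfl⟩ := hw; exact hD x
  | zero => rfl
  | add a b _ _ ha hb => rw [ha, hb, add_zero]
  | smul r a _ ha => rw [ha, smul_zero]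

end Adjoin

section Ann

variable {R : Type u} [CommRing R] [IsDomain R] [IsIntegrallyClosed R]

/-- Idempotents of `S ⊗ K'` have annihilators in `S` generated by idempotents. -/
theorem annIdem (S : Type u) [CommRing S] [Algebra R S] [Algebra.Etale R S] (K' : Type u) [Field K']
    [Algebra R K'] (hK' : Function.Injective (algebraMap R K')) : AnnIdem S (S ⊗[R] K') := by
  intro a ha
  let K := FractionRing R
  let φ0 : K →ₐ[R] K' := IsFractionRing.liftAlgHom (g := Algebra.ofId R K') hK'
  let φ : S ⊗[R] K →ₐ[S] S ⊗[R] K' := Algebra.TensorProduct.map (AlgHom.id S S) φ0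
  haveI : Module.Finite K (K ⊗[R] S) := Algebra.FormallyUnramified.finite_of_free K (K ⊗[R] S)
  haveI : IsArtinianRing (K ⊗[R] S) := IsArtinianRing.of_finite K (K ⊗[R] S)
  haveI : IsReduced (K ⊗[R] S) := Algebra.FormallyUnramified.isReduced_of_field K (K ⊗[R] S)
  let c := (Algebra.TensorProduct.comm R K S).toRingEquiv
  haveI : IsSemisimpleRing (K ⊗[R] S) := IsArtinianRing.isSemisimpleRing_of_isReduced _
  let I : Ideal (K ⊗[R] S) :=
    { carrier := {y | φ (c y) * a = 0}
      add_mem' := fun {x y} hx hy => by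
        simp only [Set.mem_setOf_eq] at hx hy ⊢
        rw [map_add, map_add, add_mul, hx, hy, add_zero]
      zero_mem' := by simp
      smul_mem' := fun r y hy => by
        simp only [Set.mem_setOf_eq, smul_eq_mul] at hy ⊢
        rw [map_mul, map_mul, mul_assoc, hy, mul_zero] }
  obtain ⟨v, hv, hIv⟩ := IsSemisimpleRing.ideal_eq_span_idempotent I
  have hint : IsIntegral S (c v) := by
    refine ⟨Polynomial.X ^ 2 - Polynomial.X, Polynomial.monic_X_pow_sub
      (lt_of_le_of_lt Polynomial.degree_X_le (by norm_num)), ?_⟩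
    simp [pow_two, (hv.map c).eq]
  obtain ⟨z, hz⟩ := (TensorProduct.toIntegralClosure_bijective_of_smooth (R := R) (S := S) (B := K)).2 ⟨c v, hint⟩
  obtain ⟨u, hu⟩ : ∃ u : S, u ⊗ₜ[R] (1 : K) = c v := by
    have h1 : (TensorProduct.toIntegralClosure R S K z : S ⊗[R] K) = c v := congrArg Subtype.val hz
    rw [← h1]
    clear h1 hz
    induction z using TensorProduct.induction_on with
    | zero => exact ⟨0, by rw [TensorProduct.zero_tmul, map_zero]; rfl⟩
    | tmul s x =>
      obtain ⟨r, hr⟩ : ∃ r : R, algebraMap R K r = (x : K) :=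
        Algebra.mem_bot.1 ((IsIntegrallyClosed.integralClosure_eq_bot R K).le x.2)
      refine ⟨r • s, ?_⟩
      show (r • s) ⊗ₜ[R] (1 : K) = s ⊗ₜ[R] (x : K)
      rw [TensorProduct.smul_tmul, ← hr, Algebra.algebraMap_eq_smul_one]
    | add p q hp hq =>
      obtain ⟨a₁, h₁⟩ := hp
      obtain ⟨a₂, h₂⟩ := hq
      exact ⟨a₁ + a₂, by rw [TensorProduct.add_tmul, h₁, h₂, map_add, Subalgebra.coe_add]⟩
  have hinj : Function.Injective (fun s : S => s ⊗ₜ[R] (1 : K)) := by
    have h1 := Module.Flat.lTensor_preserves_injective_linearMap (M := S) (Algebra.linearMap R K)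
      (IsFractionRing.injective R K)
    intro x y hxy
    have h2 : (x ⊗ₜ[R] (1 : R) : S ⊗[R] R) = y ⊗ₜ 1 := h1 (by
      simp only [LinearMap.lTensor_tmul, Algebra.linearMap_apply, map_one]; exact hxy)
    simpa using congrArg (TensorProduct.rid R S) h2
  have hφ : ∀ x : S, φ (x ⊗ₜ[R] (1 : K)) * a = x • a := fun x => by
    rw [Algebra.smul_def]
    congr 1
    simp [φ]
  refine ⟨u, ?_, fun x hx => hinj ?_⟩
  · rw [← hφ, hu]
    have : v ∈ I := hIv ▸ Ideal.mem_span_singleton_self v
    exact this
  · obtain ⟨y, hy⟩ := c.surjective (x ⊗ₜ[R] (1 : K))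
    have hyI : y ∈ I := by
      show φ (c y) * a = 0
      rw [hy, hφ, hx]
    obtain ⟨w, hw⟩ := Ideal.mem_span_singleton'.1 (hIv.le hyI)
    have hyv : y * v = y := by rw [← hw, mul_assoc, hv.eq]
    show (x * u) ⊗ₜ[R] (1 : K) = x ⊗ₜ[R] (1 : K)
    rw [show (x * u) ⊗ₜ[R] (1 : K) = (x ⊗ₜ[R] (1 : K)) * (u ⊗ₜ[R] (1 : K)) by
      rw [Algebra.TensorProduct.tmul_mul_tmul, mul_one], hu, ← hy, ← map_mul, hyv]

end Ann

end Groth.L25.Isotriv
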