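import Groth.Agent.L25.Isotriv.IdemAdjoin
import Groth.Agent.L25.Isotriv.Cover
import Groth.Agent.L25.Isotriv.Coord
import Groth.Agent.L25.Char.EtaleSplit
import Mathlib.RingTheory.IntegralClosure.Algebra.Basic

/-!
# Groups of multiplicative type over a normal domain are isotrivial
-/

set_option autoImplicit false

universe u

open TensorProduct MonoidAlgebra

noncomputable section

namespace Groth.L25.Isotriv

open Groth.L25.Char Groth.L25.MultType

variable {R : Type u} [CommRing R] {A : Type u} [CommRing A] [HopfAlgebra R A]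
variable {K' : Type u} [Field K'] [Algebra R K'] {M : Type u} [CommGroup M]
  (e₀ : K' ⊗[R] A ≃ₐc[K'] MonoidAlgebra K' M)

/-- The subalgebra generated by the coefficients of the characters. -/
def coeffAlg : Subalgebra R K' :=
  Algebra.adjoin R (Set.range fun p : M × (A →ₗ[R] R) => Fn K' p.2 (splitElem e₀ p.1))

theorem Fn_mem (m : M) (f : A →ₗ[R] R) : Fn K' f (splitElem e₀ m) ∈ coeffAlg e₀ :=
  Algebra.subset_adjoin ⟨(m, f), rfl⟩

theorem splitElem_mul (m m' : M) : splitElem e₀ (m * m') = splitElem e₀ m * splitElem e₀ m' := by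
  show e₀.symm (single (m * m') 1) = e₀.symm (single m 1) * e₀.symm (single m' 1)
  rw [← map_mul, single_mul_single, one_mul]

theorem splitElem_one : splitElem e₀ 1 = 1 := by
  show e₀.symm (single (1 : M) 1) = 1
  rw [← MonoidAlgebra.one_def, map_one]

theorem eq_sum {T : Type u} [CommRing T] {N : Type u} [CommGroup N] (y : MonoidAlgebra T N) :
    y = ∑ n ∈ y.coeff.support, y.coeff n • single n (1 : T) := MonoidAlgebra.ext (by
  rw [MonoidAlgebra.coeff_sum]
  simp only [MonoidAlgebra.coeff_smul, MonoidAlgebra.coeff_single, Finsupp.smul_single, smul_eq_mul, mul_one]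
  exact y.coeff.sum_single.symm)

section Local

variable [Module.Projective R A] {S : Type u} [CommRing S] [Algebra R S]

variable (S) in
/-- The comparison `S ⊗ R' → S ⊗ K'`. -/
def mapS : S ⊗[R] coeffAlg e₀ →ₐ[S] S ⊗[R] K' :=
  Algebra.TensorProduct.map (AlgHom.id S S) (coeffAlg e₀).val

theorem mapS_injective [Module.Flat R S] : Function.Injective (mapS e₀ S) :=
  Module.Flat.lTensor_preserves_injective_linearMap (M := S) (coeffAlg e₀).val.toLinearMap Subtype.val_injective

variable {N : Type u} [CommGroup N] (e : S ⊗[R] A ≃ₐc[S] MonoidAlgebra S N)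

/-- The inclusion of `K'`. -/
abbrev incK (S : Type u) [CommRing S] [Algebra R S] : K' →ₐ[R] S ⊗[R] K' :=
  Algebra.TensorProduct.includeRight

/-- The character `m` in the coordinates of `e`. -/
def Ym (m : M) : MonoidAlgebra (S ⊗[R] K') N :=
  (splitEquiv e (S ⊗[R] K')).symm (mapT R A (incK S) (splitElem e₀ m))

theorem isGroupLike_Ym (m : M) : IsGroupLikeElem (S ⊗[R] K') (Ym e₀ e m) :=
  (((isGL_iff R A _ _).1 ((isGL_splitElem e₀ m).map (incK S)))).map (splitEquiv e (S ⊗[R] K')).symm

theorem one_tmul_eq (a : A) : (1 : S ⊗[R] K') ⊗ₜ[R] a =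
    splitEquiv e (S ⊗[R] K') (mapAlgHom N (IsScalarTower.toAlgHom R S (S ⊗[R] K')) (e ((1 : S) ⊗ₜ a))) := by
  rw [Groth.L25.Char.Descent.splitEquiv_map, BialgEquiv.symm_apply_apply]
  simp [Algebra.TensorProduct.one_def]

theorem Ym_coeff_mem_range (m : M) (n : N) :
    (Ym e₀ e m).coeff n ∈ (mapS e₀ S).range.restrictScalars R := by
  let L : (S ⊗[R] K') ⊗[R] A →ₗ[S ⊗[R] K'] S ⊗[R] K' :=
    Finsupp.lapply n ∘ₗ (MonoidAlgebra.coeffLinearEquiv (S ⊗[R] K')).toLinearMap ∘ₗ
      (splitEquiv e (S ⊗[R] K')).symm.toLinearEquiv.toLinearMap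
  show L (mapT R A (incK S) (splitElem e₀ m)) ∈ _
  refine apply_mem _ L (fun f => ?_) (fun a => ?_)
  · rw [Fn_mapT]
    exact ⟨(1 : S) ⊗ₜ ⟨_, Fn_mem e₀ m f⟩, rfl⟩
  · show ((splitEquiv e (S ⊗[R] K')).symm ((1 : S ⊗[R] K') ⊗ₜ[R] a)).coeff n ∈ _
    rw [one_tmul_eq e, BialgEquiv.symm_apply_apply, coeff_mapAlgHom]
    exact (mapS e₀ S).range.algebraMap_mem _

include e in
theorem exists_finset_idem (hM : Monoid.FG M) :
    ∃ E : Finset (S ⊗[R] K'), (∀ x ∈ E, IsIdempotentElem x) ∧
      (mapS e₀ S).range = Algebra.adjoin S (E : Set (S ⊗[R] K')) := by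
  classical
  obtain ⟨G, hG⟩ := hM.fg_top
  let E : Finset (S ⊗[R] K') := G.biUnion fun m => (Ym e₀ e m).coeff.support.image (Ym e₀ e m).coeff
  let Q := Algebra.adjoin S (E : Set (S ⊗[R] K'))
  have hQ : ∀ m n, (Ym e₀ e m).coeff n ∈ Q.restrictScalars R := by
    intro m
    have hm : m ∈ Submonoid.closure (G : Set M) := hG ▸ Submonoid.mem_top m
    induction hm using Submonoid.closure_induction with
    | mem m hm =>
      intro n
      by_cases hn : (Ym e₀ e m).coeff n = 0
      · rw [hn]; exact zero_mem _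
      · exact Algebra.subset_adjoin (Finset.mem_coe.2 (Finset.mem_biUnion.2
          ⟨m, hm, Finset.mem_image_of_mem _ (Finsupp.mem_support_iff.2 hn)⟩))
    | one =>
      intro n
      rw [Ym, splitElem_one, map_one, map_one, MonoidAlgebra.one_def, MonoidAlgebra.coeff_single, Finsupp.single_apply]
      split_ifs
      · exact one_mem _
      · exact zero_mem _
    | mul a b _ _ ha hb =>
      intro n
      rw [Ym, splitElem_mul, map_mul, map_mul]
      exact coeff_mul_mem (Q.restrictScalars R) ha hb n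
  refine ⟨E, fun x hx => ?_, le_antisymm ?_ (Algebra.adjoin_le fun x hx => ?_)⟩
  · obtain ⟨m, -, hx⟩ := Finset.mem_biUnion.1 hx
    obtain ⟨n, -, rfl⟩ := Finset.mem_image.1 hx
    exact isIdempotentElem_coeff (isGroupLike_Ym e₀ e m) n
  · rintro _ ⟨z, rfl⟩
    show mapS e₀ S z ∈ Q
    induction z using TensorProduct.induction_on with
    | zero => rw [map_zero]; exact zero_mem _
    | add p q hp hq => rw [map_add]; exact add_mem hp hq
    | tmul s r =>
      rw [show mapS e₀ S (s ⊗ₜ[R] r) = s • incK S (r : K') by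
        simp [mapS, incK, TensorProduct.smul_tmul']]
      refine Q.smul_mem ?_ s
      have : coeffAlg e₀ ≤ (Q.restrictScalars R).comap (incK S) := Algebra.adjoin_le (by
        rintro _ ⟨⟨m, f⟩, rfl⟩
        show incK S (Fn K' f (splitElem e₀ m)) ∈ Q
        rw [← Fn_mapT, ← (splitEquiv e (S ⊗[R] K')).apply_symm_apply (mapT R A (incK S) (splitElem e₀ m))]
        have key : ∀ y : MonoidAlgebra (S ⊗[R] K') N, (∀ n, y.coeff n ∈ Q.restrictScalars R) →
            Fn (S ⊗[R] K') f (splitEquiv e (S ⊗[R] K') y) ∈ Q := by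
          intro y hy
          rw [eq_sum y, map_sum, map_sum]
          refine sum_mem fun n _ => ?_
          rw [map_smul, map_smul, smul_eq_mul, splitEquiv_single, Fn_mapT]
          exact mul_mem (hy n) (Q.algebraMap_mem _)
        exact key _ (hQ m))
      exact this r.2
  · obtain ⟨m, -, hx⟩ := Finset.mem_biUnion.1 hx
    obtain ⟨n, -, rfl⟩ := Finset.mem_image.1 hx
    exact Ym_coeff_mem_range e₀ e m n

include e in
theorem local_props [IsDomain R] [IsIntegrallyClosed R] [Algebra.Etale R S]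
    (hK' : Function.Injective (algebraMap R K')) (hM : Monoid.FG M) :
    Module.Finite S (S ⊗[R] coeffAlg e₀) ∧ Module.Projective S (S ⊗[R] coeffAlg e₀) ∧
      Algebra.FormallyUnramified S (S ⊗[R] coeffAlg e₀) := by
  obtain ⟨E, hE, heq⟩ := exists_finset_idem e₀ e hM
  obtain ⟨h1, h2, h3⟩ := finite_projective_adjoin (annIdem S K' hK') E hE
  let Φ : S ⊗[R] coeffAlg e₀ ≃ₐ[S] Algebra.adjoin S (E : Set (S ⊗[R] K')) :=
    (AlgEquiv.ofInjective (mapS e₀ S) (mapS_injective e₀)).trans (Subalgebra.equivOfEq _ _ heq)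
  exact ⟨Module.Finite.equiv Φ.symm.toLinearEquiv, Module.Projective.of_equiv Φ.symm.toLinearEquiv,
    Algebra.FormallyUnramified.of_equiv Φ.symm⟩

end Local

section Diag

variable [Module.Projective R A]

theorem exists_lift (m : M) : ∃ y : coeffAlg e₀ ⊗[R] A, mapT R A (coeffAlg e₀).val y = splitElem e₀ m :=
  mem_range_mapT _ fun f => Fn_mem e₀ m f

/-- The character over the coefficient algebra. -/
def gam (m : M) : coeffAlg e₀ ⊗[R] A := (exists_lift e₀ m).choose

theorem mapT_gam (m : M) : mapT R A (coeffAlg e₀).val (gam e₀ m) = splitElem e₀ m :=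
  (exists_lift e₀ m).choose_spec

/-- The characters as a monoid map. -/
def gamHom : M →* GroupLike (coeffAlg e₀) (coeffAlg e₀ ⊗[R] A) where
  toFun m := ⟨gam e₀ m, (isGL_iff R A _ _).1 (isGL_of_map Subtype.val_injective
    ((mapT_gam e₀ m).symm ▸ isGL_splitElem e₀ m))⟩
  map_one' := GroupLike.ext (mapT_injective (f := (coeffAlg e₀).val) Subtype.val_injective (by
    show mapT R A _ (gam e₀ 1) = mapT R A _ 1
    rw [mapT_gam, splitElem_one, map_one]))
  map_mul' m m' := GroupLike.ext (mapT_injective (f := (coeffAlg e₀).val) Subtype.val_injective (by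
    show mapT R A _ (gam e₀ (m * m')) = mapT R A _ (gam e₀ m * gam e₀ m')
    rw [map_mul, mapT_gam, mapT_gam, mapT_gam, splitElem_mul]))

/-- The comparison with the group algebra. -/
def theta : MonoidAlgebra (coeffAlg e₀) M →ₐc[coeffAlg e₀] coeffAlg e₀ ⊗[R] A :=
  (MonoidAlgebra.liftGroupLikeBialgHom).comp (MonoidAlgebra.mapDomainBialgHom (coeffAlg e₀) (gamHom e₀))

theorem theta_single (m : M) (r : coeffAlg e₀) : theta e₀ (single m r) = r • gam e₀ m := by
  simp [theta, gamHom]

theorem theta_injective : Function.Injective (theta e₀) := by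
  have key : ∀ y, mapT R A (coeffAlg e₀).val (theta e₀ y) = e₀.symm (mapAlgHom M (coeffAlg e₀).val y) := by
    intro y
    induction y using MonoidAlgebra.induction_linear with
    | zero => simp
    | add a b ha hb => simp only [map_add, ha, hb]
    | single m r =>
      rw [theta_single, mapT_smul, mapT_gam, mapAlgHom_single,
        show single m ((coeffAlg e₀).val r) = (coeffAlg e₀).val r • single m (1 : K') by simp, map_smul]
      rfl
  intro x y h
  have h1 := e₀.symm.injective ((key x).symm.trans ((congrArg _ h).trans (key y)))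
  refine MonoidAlgebra.ext (Finsupp.ext fun m => Subtype.ext ?_)
  have h2 := congrArg (fun z => z.coeff m) h1
  simp only [coeff_mapAlgHom] at h2
  exact h2

variable {S : Type u} [CommRing S] [Algebra R S] {N : Type u} [CommGroup N]
  (e : S ⊗[R] A ≃ₐc[S] MonoidAlgebra S N)

variable (S) in
/-- `S ⊗ (R' ⊗ A) → (S ⊗ K') ⊗ A`. -/
def Psi : S ⊗[R] (coeffAlg e₀ ⊗[R] A) →ₗ[R] (S ⊗[R] K') ⊗[R] A :=
  (mapT R A ((mapS e₀ S).restrictScalars R)).toLinearMap ∘ₗ (TensorProduct.assoc R S (coeffAlg e₀) A).symm.toLinearMap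

theorem Psi_injective [Module.Flat R S] : Function.Injective (Psi e₀ S) :=
  (mapT_injective (f := (mapS e₀ S).restrictScalars R) (mapS_injective e₀)).comp (LinearEquiv.injective _)

theorem Psi_tmul_smul (s : S) (r : coeffAlg e₀) (y : coeffAlg e₀ ⊗[R] A) :
    Psi e₀ S (s ⊗ₜ[R] (r • y)) = mapS e₀ S (s ⊗ₜ[R] r) • mapT R A (incK S) (mapT R A (coeffAlg e₀).val y) := by
  induction y using TensorProduct.induction_on with
  | zero => simp
  | add a b ha hb => simp only [smul_add, TensorProduct.tmul_add, map_add, ha, hb]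
  | tmul t a =>
    simp [Psi, mapS, incK, TensorProduct.smul_tmul', Algebra.TensorProduct.tmul_mul_tmul]

theorem Psi_Fn_mem (w : S ⊗[R] (coeffAlg e₀ ⊗[R] A)) (f : A →ₗ[R] R) :
    Fn (S ⊗[R] K') f (Psi e₀ S w) ∈ (mapS e₀ S).range := by
  induction w using TensorProduct.induction_on with
  | zero => simp
  | add a b ha hb => rw [map_add, map_add]; exact add_mem ha hb
  | tmul s y =>
    induction y using TensorProduct.induction_on with
    | zero => simp
    | add a b ha hb => rw [TensorProduct.tmul_add, map_add, map_add]; exact add_mem ha hb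
    | tmul t a =>
      rw [show Psi e₀ S (s ⊗ₜ[R] (t ⊗ₜ[R] a)) = mapS e₀ S (s ⊗ₜ[R] t) ⊗ₜ[R] a from rfl, Fn_tmul]
      exact (mapS e₀ S).range.restrictScalars R |>.smul_mem ⟨_, rfl⟩ _

include e in
theorem lTensor_theta_surjective [Algebra.Etale R S] :
    Function.Surjective (((theta e₀ : MonoidAlgebra (coeffAlg e₀) M →ₐ[coeffAlg e₀] coeffAlg e₀ ⊗[R] A).toLinearMap.restrictScalars R).lTensor S) := by
  let T := S ⊗[R] K'
  letI : Algebra K' T := Algebra.TensorProduct.rightAlgebra
  haveI : IsScalarTower R K' T := IsScalarTower.of_algebraMap_eq fun r => by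
    change algebraMap R S r ⊗ₜ[R] (1 : K') = (1 : S) ⊗ₜ algebraMap R K' r
    exact Algebra.TensorProduct.tmul_one_eq_one_tmul r
  let θR := (theta e₀ : MonoidAlgebra (coeffAlg e₀) M →ₐ[coeffAlg e₀] coeffAlg e₀ ⊗[R] A).toLinearMap.restrictScalars R
  let L := LinearMap.range ((Psi e₀ S) ∘ₗ θR.lTensor S)
  intro w
  suffices hL : Psi e₀ S w ∈ L by
    obtain ⟨v, hv⟩ := hL
    exact ⟨v, Psi_injective e₀ hv⟩
  have hgen : ∀ p ∈ (mapS e₀ S).range, ∀ m, p • mapT R A (incK S) (splitElem e₀ m) ∈ L := by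
    rintro _ ⟨z, rfl⟩ m
    show mapS e₀ S z • _ ∈ L
    induction z using TensorProduct.induction_on with
    | zero => rw [map_zero, zero_smul]; exact zero_mem _
    | add a b ha hb => rw [map_add, add_smul]; exact add_mem ha hb
    | tmul s r =>
      refine ⟨s ⊗ₜ single m r, ?_⟩
      show Psi e₀ S (s ⊗ₜ θR (single m r)) = _
      rw [show θR (single m r) = r • gam e₀ m from theta_single e₀ m r, Psi_tmul_smul, mapT_gam]
  have hE0 : ∀ m, splitEquiv e₀ T (single m 1) = mapT R A (incK S) (splitElem e₀ m) := fun m => by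
    rw [splitEquiv_single]
    rfl
  let Θ : MonoidAlgebra T N ≃ₗ[T] MonoidAlgebra T M :=
    (splitEquiv e T).toLinearEquiv.trans (splitEquiv e₀ T).toLinearEquiv.symm
  have hΘs : ∀ m, Θ.symm (single m 1) = Ym e₀ e m := fun m => by
    show (splitEquiv e T).symm (splitEquiv e₀ T (single m 1)) = _
    rw [hE0]
    rfl
  have hcoef : ∀ n m, (Θ (single n 1)).coeff m ∈ (mapS e₀ S).range := fun n m => by
    rw [coeff_symm Θ (fun n => ((MonoidAlgebra.isGroupLikeElem_single_one n).map (splitEquiv e T)).map (splitEquiv e₀ T).symm)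
      (fun m => (hΘs m).symm ▸ isGroupLike_Ym e₀ e m), hΘs]
    exact Ym_coeff_mem_range e₀ e m n
  have hn : ∀ n, ∀ p ∈ (mapS e₀ S).range, p • splitEquiv e T (single n 1) ∈ L := by
    intro n p hp
    let y := Θ (single n (1 : T))
    have key : ∀ z : MonoidAlgebra T M,
        splitEquiv e₀ T z = ∑ m ∈ z.coeff.support, z.coeff m • mapT R A (incK S) (splitElem e₀ m) := by
      intro z
      conv_lhs => rw [eq_sum z]
      rw [map_sum]
      exact Finset.sum_congr rfl fun m _ => by rw [map_smul, hE0]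
    have hy0 : ∀ x : MonoidAlgebra T N, (splitEquiv e₀ T).toLinearEquiv (Θ x) = (splitEquiv e T).toLinearEquiv x :=
      fun x => LinearEquiv.apply_symm_apply _ _
    have h1 : splitEquiv e T (single n 1) = ∑ m ∈ y.coeff.support, y.coeff m • mapT R A (incK S) (splitElem e₀ m) := by
      have h2 := key y
      have h3 := hy0 (single n 1)
      exact h3.symm.trans h2
    rw [h1, Finset.smul_sum]
    refine sum_mem fun m _ => ?_
    rw [smul_smul]
    exact hgen _ (mul_mem hp (hcoef n m)) m
  obtain ⟨s, f, hx⟩ := recon (Psi e₀ S w)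
  rw [hx]
  refine sum_mem fun a _ => ?_
  let y := e ((1 : S) ⊗ₜ[R] a)
  have hy : mapAlgHom N (IsScalarTower.toAlgHom R S T) y =
      ∑ n ∈ y.coeff.support, algebraMap S T (y.coeff n) • single n (1 : T) := by
    conv_lhs => rw [eq_sum y]
    rw [map_sum]
    refine Finset.sum_congr rfl fun n _ => ?_
    rw [smul_single', mul_one, smul_single', mul_one, mapAlgHom_single]
    rfl
  rw [one_tmul_eq e a, hy, map_sum, Finset.smul_sum]
  refine sum_mem fun n _ => ?_
  rw [map_smul, smul_smul]
  exact hn n _ (mul_mem (Psi_Fn_mem e₀ w _) ((mapS e₀ S).range.algebraMap_mem _))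

theorem theta_surjective
    (hloc : EtLoc R fun S _ _ => ∃ (N : Type u) (_ : CommGroup N), Nonempty (S ⊗[R] A ≃ₐc[S] MonoidAlgebra S N)) :
    Function.Surjective (theta e₀) := by
  let θR : MonoidAlgebra (coeffAlg e₀) M →ₗ[R] coeffAlg e₀ ⊗[R] A :=
    (theta e₀ : MonoidAlgebra (coeffAlg e₀) M →ₐ[coeffAlg e₀] coeffAlg e₀ ⊗[R] A).toLinearMap.restrictScalars R
  have hQ : Subsingleton ((coeffAlg e₀ ⊗[R] A) ⧸ LinearMap.range θR) := EtLoc.subsingleton (R := R)
    (hloc.mono fun S _ _ _ ⟨N, _, ⟨e⟩⟩ => subsingleton_of_forall_eq 0 fun y => by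
      obtain ⟨z, rfl⟩ := LinearMap.lTensor_surjective S (LinearMap.range θR).mkQ_surjective y
      obtain ⟨v, rfl⟩ := lTensor_theta_surjective e₀ e z
      rw [← LinearMap.lTensor_comp_apply, show (LinearMap.range θR).mkQ ∘ₗ θR = 0 from
        LinearMap.range_le_ker_iff.1 (by rw [Submodule.ker_mkQ]), LinearMap.lTensor_zero]
      rfl)
  exact LinearMap.range_eq_top.1 (Submodule.Quotient.subsingleton_iff.1 hQ)

end Diag

/-- A group of multiplicative type and of finite type over a normal domain is isotrivial. -/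
theorem isIsotrivial [IsDomain R] [IsIntegrallyClosed R] [Algebra.FiniteType R A]
    (hA : SGA3b.IsMultType R A) : SGA3b.IsIsotrivial R A := by
  haveI : Module.Projective R A := Groth.L25.Char.projective_of_isMultType hA
  obtain ⟨B, _, _, _, q, hq, hqp, M, _, hM, ⟨eB⟩⟩ := exists_etale_split hA (⊥ : Ideal R)
  let K' := FractionRing (B ⧸ q)
  let e₀ := (splitEquiv eB K').symm
  have hK' : Function.Injective (algebraMap R K') := by
    rw [IsScalarTower.algebraMap_eq R (B ⧸ q) K', RingHom.coe_comp]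
    refine (IsFractionRing.injective (B ⧸ q) K').comp ((injective_iff_map_eq_zero _).2 fun r hr => ?_)
    rw [IsScalarTower.algebraMap_apply R B (B ⧸ q), Ideal.Quotient.algebraMap_eq, Ideal.Quotient.eq_zero_iff_mem] at hr
    have : r ∈ q.comap (algebraMap R B) := hr
    rwa [hqp, Ideal.mem_bot] at this
  let R' := coeffAlg e₀
  have hloc : EtLoc R fun S _ _ => ∃ (N : Type u) (_ : CommGroup N), Nonempty (S ⊗[R] A ≃ₐc[S] MonoidAlgebra S N) := by
    intro p _
    obtain ⟨S, _, _, _, q, hq, hqp, N, _, -, he⟩ := exists_etale_split hA p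
    exact ⟨S, inferInstance, inferInstance, inferInstance, q, hq, hqp, N, inferInstance, he⟩
  haveI : Module.Finite R R' := EtLoc.finite (hloc.mono fun S _ _ _ ⟨N, _, ⟨e⟩⟩ => (local_props e₀ e hK' hM).1)
  haveI : Module.Flat R R' := EtLoc.flat (hloc.mono fun S _ _ _ ⟨N, _, ⟨e⟩⟩ => by
    haveI := (local_props e₀ e hK' hM).2.1
    infer_instance)
  haveI : Module.FinitePresentation R R' :=
    EtLoc.finitePresentation (hloc.mono fun S _ _ _ ⟨N, _, ⟨e⟩⟩ => (local_props e₀ e hK' hM).2.1)
  haveI : Algebra.FormallyUnramified R R' :=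
    EtLoc.formallyUnramified (hloc.mono fun S _ _ _ ⟨N, _, ⟨e⟩⟩ => (local_props e₀ e hK' hM).2.2)
  haveI : Algebra.FinitePresentation R R' :=
    (Module.FinitePresentation.iff_finitePresentation_of_finite R R').1 inferInstance
  haveI : Algebra.Etale R R' := Algebra.Etale.of_formallyUnramified_of_flat
  haveI : FaithfulSMul R R' := (faithfulSMul_iff_algebraMap_injective R R').2 fun x y h => hK' (congrArg Subtype.val h)
  haveI : Module.FaithfullyFlat R R' :=
    Module.FaithfullyFlat.of_comap_surjective (Algebra.IsIntegral.comap_surjective R R')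
  have hsurj : Function.Surjective (theta e₀) := theta_surjective e₀ hloc
  exact ⟨R', inferInstance, inferInstance, inferInstance, inferInstance, inferInstance, M, inferInstance,
    ⟨(BialgEquiv.ofBijective (theta e₀) ⟨theta_injective e₀, hsurj⟩).symm⟩⟩

end Groth.L25.Isotriv
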